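import Cfsg.Agent.Lib.SchurCert.Sz8.Data
import Cfsg.Agent.Lib.SchurCert.Bits
import Cfsg.Agent.Lib.SchurCert.Cover
import Cfsg.Agent.Lib.SchurCert.F8

/-!
# The maps read off the tables
-/

set_option autoImplicit false

namespace Cfsg.Agent.Lib.SchurCert.Sz8.Defs

open Cfsg.Agent.Lib.SchurCert.Elim Cfsg.Agent.Lib.SchurCert.Sz8.Data Cfsg.Agent.Lib.SchurCert.Bits
open Cfsg.Agent.Lib.SchurCert.F8

/-- Number of vertices. -/
def nV : Nat := 29120

/-- Left multiplication by a generator. -/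
noncomputable def nxF (v g : Nat) : Nat := Nat.land (edgeT (Nat.add (Nat.mul 2 v) g)) 32767
/-- Right multiplication by a generator. -/
noncomputable def rxF (v g : Nat) : Nat := Nat.land (Nat.shiftRight (edgeT (Nat.add (Nat.mul 2 v) g)) 15) 32767
/-- The cocycle of left multiplication. -/
noncomputable def kcF (v g : Nat) : Nat := Nat.land (Nat.shiftRight (edgeT (Nat.add (Nat.mul 2 v) g)) 30) 3
/-- The cocycle of right multiplication. -/
noncomputable def lcF (v g : Nat) : Nat := Nat.land (Nat.shiftRight (edgeT (Nat.add (Nat.mul 2 v) g)) 32) 3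
/-- The tree of left multiplications. -/
noncomputable def parF (v : Nat) : Nat := Nat.land (vertT v) 65535
/-- The tree of right multiplications. -/
noncomputable def rpF (v : Nat) : Nat := Nat.land (Nat.shiftRight (vertT v) 16) 65535
/-- The ranks of right multiplications. -/
noncomputable def rrF (v : Nat) : Nat := Nat.shiftRight (vertT v) 32

/-- A digit of a matrix code. -/
def dig (c i : Nat) : Nat := Nat.land (Nat.shiftRight c (Nat.mul 3 i)) 7

/-- One entry of a product of matrices, with the indices of the digits. -/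
def entC (A X Y a0 a1 a2 a3 x0 x1 x2 x3 y : Nat) : Bool :=
  Nat.beq (Nat.xor (mul8 (dig A a0) (dig X x0)) (Nat.xor (mul8 (dig A a1) (dig X x1))
    (Nat.xor (mul8 (dig A a2) (dig X x2)) (mul8 (dig A a3) (dig X x3))))) (dig Y y)

/-- The check of a product of matrices. -/
def eqM (A X Y : Nat) : Bool :=
  entC A X Y 0 1 2 3 0 4 8 12 0 && entC A X Y 0 1 2 3 1 5 9 13 1 && entC A X Y 0 1 2 3 2 6 10 14 2 &&
  entC A X Y 0 1 2 3 3 7 11 15 3 && entC A X Y 4 5 6 7 0 4 8 12 4 && entC A X Y 4 5 6 7 1 5 9 13 5 &&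
  entC A X Y 4 5 6 7 2 6 10 14 6 && entC A X Y 4 5 6 7 3 7 11 15 7 && entC A X Y 8 9 10 11 0 4 8 12 8 &&
  entC A X Y 8 9 10 11 1 5 9 13 9 && entC A X Y 8 9 10 11 2 6 10 14 10 && entC A X Y 8 9 10 11 3 7 11 15 11 &&
  entC A X Y 12 13 14 15 0 4 8 12 12 && entC A X Y 12 13 14 15 1 5 9 13 13 &&
  entC A X Y 12 13 14 15 2 6 10 14 14 && entC A X Y 12 13 14 15 3 7 11 15 15

/-- The code of the identity matrix. -/
def oneC : Nat := 0x200040008001

/-- The codes of the generators. -/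
def genC (g : Nat) : Nat := cond (Nat.beq g 0) 0x7993a31afaf1 0x3923f50693fa

/-- The codes of the inverses of the generators. -/
def gen4C (g : Nat) : Nat := cond (Nat.beq g 0) 0x3d9d637b6a0b 0x46af72e7e209

/-- Does the code define the identity matrix? -/
def isOne (c : Nat) : Bool :=
  Nat.beq (dig c 0) 1 && Nat.beq (dig c 1) 0 && Nat.beq (dig c 2) 0 && Nat.beq (dig c 3) 0 &&
  Nat.beq (dig c 4) 0 && Nat.beq (dig c 5) 1 && Nat.beq (dig c 6) 0 && Nat.beq (dig c 7) 0 &&
  Nat.beq (dig c 8) 0 && Nat.beq (dig c 9) 0 && Nat.beq (dig c 10) 1 && Nat.beq (dig c 11) 0 &&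
  Nat.beq (dig c 12) 0 && Nat.beq (dig c 13) 0 && Nat.beq (dig c 14) 0 && Nat.beq (dig c 15) 1

/-- The addition of codes. -/
def addC (a b : Nat) : Nat :=
  Nat.add (Nat.mod (Nat.add (Nat.mod a 2) (Nat.mod b 2)) 2)
    (Nat.mul 2 (Nat.mod (Nat.add (Nat.div a 2) (Nat.div b 2)) 2))

/-- The checks on the edges at a vertex. -/
noncomputable def edgeC (v g : Nat) : Bool :=
  Nat.blt (nxF v g) nV && Nat.blt (rxF v g) nV &&
    Nat.beq (nxF (nxF (nxF (nxF (nxF v g) g) g) g) g) v &&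
    Nat.beq (addC (kcF v g) (addC (kcF (nxF v g) g) (addC (kcF (nxF (nxF v g) g) g)
      (addC (kcF (nxF (nxF (nxF v g) g) g) g) (kcF (nxF (nxF (nxF (nxF v g) g) g) g) g))))) 0 &&
    Nat.beq (rxF (nxF v g) 0) (nxF (rxF v 0) g) && Nat.beq (rxF (nxF v g) 1) (nxF (rxF v 1) g) &&
    Nat.beq (addC (kcF v g) (lcF (nxF v g) 0)) (addC (lcF v 0) (kcF (rxF v 0) g)) &&
    Nat.beq (addC (kcF v g) (lcF (nxF v g) 1)) (addC (lcF v 1) (kcF (rxF v 1) g)) &&
    eqM (genC g) (codeT v) (codeT (nxF v g))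

/-- The tree checks at a vertex. -/
noncomputable def treeC (v : Nat) : Bool :=
  Nat.beq v 0 ||
    (Nat.blt (parV parF v) v && Nat.beq (nxF (parV parF v) (pgV parF v)) v &&
      Nat.blt (parV rpF v) nV && Nat.beq (rxF (parV rpF v) (pgV rpF v)) v && Nat.blt (rrF (parV rpF v)) (rrF v) &&
      !(isOne (codeT v)))

/-- The checks at a vertex. -/
noncomputable def vertC (v : Nat) : Bool :=
  !(Nat.blt v nV) || (edgeC v 0 && edgeC v 1 && treeC v)

end Cfsg.Agent.Lib.SchurCert.Sz8.Defs
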